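import Groth.Agent.L05.WE.Max
import Groth.Agent.L27.IndEtale
import Mathlib.RingTheory.EssentialFiniteness
import Mathlib.RingTheory.KrullDimension.Zero
import Mathlib.RingTheory.HopkinsLevitzki

/-!
# Fibres of weakly étale algebras
-/

open TensorProduct

namespace Groth.L05.WE

universe u

theorem exists_pi_separable {K B : Type u} [Field K] [CommRing B] [Algebra K B]
    [IsNoetherianRing B] [Algebra.WeaklyEtale K B] :
    ∃ (n : ℕ) (L : Fin n → Type u) (_ : ∀ i, Field (L i)) (_ : ∀ i, Algebra K (L i)),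
      (∀ i, Algebra.IsSeparable K (L i)) ∧ Nonempty (B ≃ₐ[K] (Π i, L i)) := by
  classical
  haveI := Groth.L20.isReduced_of_weaklyEtale K B
  haveI : Ring.KrullDimLE 0 B := Ring.KrullDimLE.mk₀ fun P hP => by
    refine Ideal.Quotient.maximal_of_isField _ ⟨⟨0, 1, zero_ne_one⟩, mul_comm, fun {z} hz => ?_⟩
    obtain ⟨z, rfl⟩ := Ideal.Quotient.mk_surjective z
    obtain ⟨c, hc⟩ := exists_mul_mul_eq K B z
    refine ⟨Ideal.Quotient.mk _ c, mul_left_cancel₀ hz ?_⟩
    rw [← mul_assoc, mul_one, ← map_mul, ← map_mul, hc]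
  haveI : IsArtinianRing B := isArtinianRing_iff_isNoetherianRing_krullDimLE_zero.mpr ⟨inferInstance, inferInstance⟩
  haveI : Fintype (MaximalSpectrum B) := Fintype.ofFinite _
  let e := Fintype.equivFin (MaximalSpectrum B)
  let L : Fin (Fintype.card (MaximalSpectrum B)) → Type u := fun i => B ⧸ (e.symm i).asIdeal
  letI : ∀ i, Field (L i) := fun i => Ideal.Quotient.field _
  refine ⟨_, L, inferInstance, fun i => inferInstanceAs (Algebra K (B ⧸ (e.symm i).asIdeal)),
    fun i => ?_, ⟨?_⟩⟩
  · haveI := weaklyEtale_quotient K B (e.symm i).asIdeal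
    exact Groth.Agent.S0426.result (K := K) (L := L i)
  · exact ((IsArtinianRing.equivPi B).restrictScalars K).trans
      (AlgEquiv.piCongrLeft' K (fun m : MaximalSpectrum B => B ⧸ m.asIdeal) e)

theorem exists_pi_separable_fibre {R S : Type u} [CommRing R] [CommRing S] [Algebra R S]
    [IsNoetherianRing S] (h : EtPBC.IsIndEtale R S) (p : Ideal R) [p.IsPrime] :
    ∃ (n : ℕ) (L : Fin n → Type u) (_ : ∀ i, Field (L i)) (_ : ∀ i, Algebra p.ResidueField (L i)),
      (∀ i, Algebra.IsSeparable p.ResidueField (L i)) ∧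
        Nonempty ((p.ResidueField ⊗[R] S) ≃ₐ[p.ResidueField] (Π i, L i)) := by
  haveI := Groth.L27.IndEtale.weaklyEtale p.ResidueField (p.ResidueField ⊗[R] S)
    (Groth.L27.IndEtale.baseChange R S p.ResidueField h)
  haveI : IsNoetherianRing (p.ResidueField ⊗[R] S) := by
    haveI : IsNoetherianRing (S ⊗[R] p.ResidueField) :=
      Algebra.EssFiniteType.isNoetherianRing S (S ⊗[R] p.ResidueField)
    exact isNoetherianRing_of_ringEquiv _ (Algebra.TensorProduct.comm R S p.ResidueField).toRingEquiv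
  exact exists_pi_separable

theorem isSeparable_residueField_of_weaklyEtale {A B : Type u} [CommRing A] [CommRing B]
    [Algebra A B] [Algebra.WeaklyEtale A B] (p : Ideal A) [p.IsPrime] (q : Ideal B) [q.IsPrime]
    [Algebra p.ResidueField q.ResidueField] [IsScalarTower A p.ResidueField q.ResidueField] :
    Algebra.IsSeparable p.ResidueField q.ResidueField := by
  let f : p.ResidueField ⊗[A] B →ₐ[p.ResidueField] q.ResidueField :=
    Algebra.TensorProduct.lift (Algebra.ofId _ _) (IsScalarTower.toAlgHom A B q.ResidueField)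
      fun _ _ => Commute.all _ _
  refine ⟨fun x => mem_separableClosure_iff.mp ?_⟩
  obtain ⟨a, ⟨s, hs⟩, rfl⟩ := IsLocalization.exists_mk'_eq (nonZeroDivisors (B ⧸ q)) x
  obtain ⟨a, rfl⟩ := Ideal.Quotient.mk_surjective a
  obtain ⟨s, rfl⟩ := Ideal.Quotient.mk_surjective s
  have hmem : ∀ b : B, algebraMap B q.ResidueField b ∈
      separableClosure p.ResidueField q.ResidueField := fun b => by
    refine mem_separableClosure_iff.mpr ?_
    have := ((isSepRoot p.ResidueField (p.ResidueField ⊗[A] B) (1 ⊗ₜ[A] b)).map f).isSeparable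
    simpa [f] using this
  rw [IsFractionRing.mk'_eq_div]
  show algebraMap (B ⧸ q) q.ResidueField (Ideal.Quotient.mk q a) /
    algebraMap (B ⧸ q) q.ResidueField (Ideal.Quotient.mk q s) ∈ _
  rw [← Ideal.Quotient.algebraMap_eq, ← IsScalarTower.algebraMap_apply,
    ← IsScalarTower.algebraMap_apply]
  exact div_mem (hmem a) (hmem s)

end Groth.L05.WE
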