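import Groth.Agent.L20.WeaklyEtale
import Groth.Agent.L27.IndEtalePerm
import Groth.Agent.S0426
import Mathlib.RingTheory.Etale.Field
import Mathlib.Dynamics.Newton
import Mathlib.FieldTheory.SeparableClosure
import Mathlib.FieldTheory.Separable

/-!
# Weakly étale algebras over a field: every element is killed by a separable polynomial
-/

open TensorProduct Polynomial

namespace Groth.L05.WE

universe u

/-- `x` is a root of a separable polynomial over `K`. -/
def IsSepRoot (K : Type u) [Field K] {B : Type u} [CommRing B] [Algebra K B] (x : B) : Prop :=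
  ∃ P : K[X], P.Separable ∧ aeval x P = 0

variable {K : Type u} [Field K] {B C : Type u} [CommRing B] [Algebra K B] [CommRing C] [Algebra K C]

theorem IsSepRoot.map {x : B} (h : IsSepRoot K x) (f : B →ₐ[K] C) : IsSepRoot K (f x) := by
  obtain ⟨P, hP, hx⟩ := h
  exact ⟨P, hP, by rw [aeval_algHom_apply, hx, map_zero]⟩

theorem IsSepRoot.of_map {x : B} (f : B →ₐ[K] C) (hf : Function.Injective f)
    (h : IsSepRoot K (f x)) : IsSepRoot K x := by
  obtain ⟨P, hP, hx⟩ := h
  exact ⟨P, hP, hf (by rw [← aeval_algHom_apply, hx, map_zero])⟩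

theorem IsSepRoot.isIntegral {x : B} (h : IsSepRoot K x) : IsIntegral K x := by
  obtain ⟨P, hP, hx⟩ := h
  exact IsAlgebraic.isIntegral ⟨P, hP.ne_zero, hx⟩

theorem IsSepRoot.isSeparable {x : B} (h : IsSepRoot K x) : IsSeparable K x := by
  obtain ⟨P, hP, hx⟩ := h
  exact hP.of_dvd (minpoly.dvd K x hx)

theorem isSepRoot_of_isSeparable {x : B} (h : IsSeparable K x) : IsSepRoot K x :=
  ⟨minpoly K x, h, minpoly.aeval K x⟩

theorem formallyUnramified_adjoin (s : Set B) (hs : ∀ x ∈ s, IsSepRoot K x) :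
    Algebra.FormallyUnramified K (Algebra.adjoin K s) := by
  refine Algebra.FormallyUnramified.iff_comp_injective.mpr fun D _ _ J hJ f g hfg => ?_
  refine AlgHom.adjoin_ext fun x hx => ?_
  obtain ⟨P, hP, hx0⟩ := hs x hx
  have hy : aeval (⟨x, Algebra.subset_adjoin hx⟩ : Algebra.adjoin K s) P = 0 := Subtype.ext (by
    rw [ZeroMemClass.coe_zero, ← Subalgebra.val_apply, ← aeval_algHom_apply]
    exact hx0)
  set y : Algebra.adjoin K s := ⟨x, Algebra.subset_adjoin hx⟩
  have hf : aeval (f y) P = 0 := by rw [aeval_algHom_apply, hy, map_zero]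
  have hg : aeval (g y) P = 0 := by rw [aeval_algHom_apply, hy, map_zero]
  obtain ⟨a, b, hab⟩ := hP
  have hu : IsUnit (aeval (f y) (derivative P)) := by
    refine IsUnit.of_mul_eq_one (aeval (f y) b) ?_
    have := congrArg (aeval (f y)) hab
    rw [map_add, map_mul, map_mul, hf, mul_zero, zero_add, map_one] at this
    rw [mul_comm]
    exact this
  have hnil : IsNilpotent (f y - g y) := by
    refine ⟨2, ?_⟩
    have h1 : f y - g y ∈ J := Ideal.Quotient.eq.mp (DFunLike.congr_fun hfg y)
    have h2 := Ideal.pow_mem_pow h1 2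
    rwa [hJ, Ideal.mem_bot] at h2
  exact ((existsUnique_nilpotent_sub_and_aeval_eq_zero (x := f y)
    (by rw [hf]; exact IsNilpotent.zero) hu).unique ⟨by simp, hf⟩ ⟨hnil, hg⟩)

theorem etale_adjoin (s : Set B) (hfin : s.Finite) (hs : ∀ x ∈ s, IsSepRoot K x) :
    Algebra.Etale K (Algebra.adjoin K s) := by
  haveI : Module.Finite K (Algebra.adjoin K s) :=
    ⟨(Submodule.fg_top _).mpr (fg_adjoin_of_finite hfin fun x hx => (hs x hx).isIntegral)⟩
  haveI := formallyUnramified_adjoin s hs
  haveI : Algebra.FinitePresentation K (Algebra.adjoin K s) :=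
    Algebra.FinitePresentation.of_finiteType.mp inferInstance
  exact ⟨Algebra.FormallyEtale.of_formallyUnramified_of_field K _, inferInstance⟩

theorem isIndEtale_of_forall (h : ∀ x : B, IsSepRoot K x) : EtPBC.IsIndEtale K B := by
  classical
  refine (Groth.L27.IndEtale.isIndEtale_iff_exists_factor K B).mpr fun P _ _ _ ψ => ?_
  obtain ⟨n, π, hπ, -⟩ := Algebra.FinitePresentation.out (R := K) (A := P)
  let s : Set B := Set.range fun i => ψ (π (MvPolynomial.X i))
  have hle : ∀ p, ψ p ∈ Algebra.adjoin K s := fun p => by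
    obtain ⟨q, rfl⟩ := hπ p
    have : (ψ.comp π) = MvPolynomial.aeval fun i => ψ (π (MvPolynomial.X i)) :=
      MvPolynomial.algHom_ext fun i => by simp
    rw [← AlgHom.comp_apply, this, Algebra.adjoin_range_eq_range_aeval]
    exact ⟨q, rfl⟩
  haveI := etale_adjoin s (Set.finite_range _) fun x _ => h x
  exact ⟨Algebra.adjoin K s, inferInstance, inferInstance, ψ.codRestrict _ hle,
    (Algebra.adjoin K s).val, inferInstance, AlgHom.ext fun p => rfl⟩

theorem weaklyEtale_of_forall (h : ∀ x : B, IsSepRoot K x) : Algebra.WeaklyEtale K B :=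
  Groth.L27.IndEtale.weaklyEtale K B (isIndEtale_of_forall h)

section

variable (K) (B) [Algebra.WeaklyEtale K B]

include K

theorem flat_module (M : Type u) [AddCommGroup M] [Module B M] : Module.Flat B M := by
  letI : Module K M := Module.compHom M (algebraMap K B)
  haveI : IsScalarTower K B M := ⟨fun k s m => by
    show (k • s) • m = algebraMap K B k • (s • m)
    rw [Algebra.smul_def, mul_smul]⟩
  exact Groth.L20.flat_of_flat_of_flat_lmul (R := K) (Algebra.WeaklyEtale.flat_lmul' K B)

theorem exists_mul_mul_eq (y : B) : ∃ c, y * y * c = y := by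
  let I := Ideal.span {y}
  haveI := flat_module K B (B ⧸ I)
  have hrel : ∑ i : Fin 1, (fun _ => y) i • (fun _ => (1 : B ⧸ I)) i = 0 := by
    simp only [Fin.sum_univ_one, Algebra.smul_def, mul_one]
    exact Ideal.Quotient.eq_zero_iff_mem.mpr (Ideal.mem_span_singleton_self y)
  obtain ⟨k, A, z, hz, hA⟩ := Module.Flat.isTrivialRelation_of_sum_smul_eq_zero hrel
  choose b hb using fun j => Ideal.Quotient.mk_surjective (z j)
  have h1 : Ideal.Quotient.mk I (∑ j, A 0 j * b j) = 1 := by
    simp only [map_sum, map_mul, hb]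
    exact (hz 0).symm
  rw [← map_one (Ideal.Quotient.mk I), Ideal.Quotient.eq, Ideal.mem_span_singleton] at h1
  obtain ⟨c, hc⟩ := h1
  have h2 : y * ∑ j, A 0 j * b j = 0 := by
    rw [Finset.mul_sum]
    refine Finset.sum_eq_zero fun j _ => ?_
    have := hA j
    simp only [Fin.sum_univ_one] at this
    rw [← mul_assoc, this, zero_mul]
  exact ⟨-c, by linear_combination y * hc - h2⟩

theorem weaklyEtale_quotient (I : Ideal B) : Algebra.WeaklyEtale K (B ⧸ I) := by
  haveI := flat_module K B (B ⧸ I)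
  haveI : Algebra.WeaklyEtale B (B ⧸ I) := by
    refine ⟨inferInstance, ?_⟩
    have hone : ∀ z : (B ⧸ I) ⊗[B] (B ⧸ I), ∃ a : B ⧸ I, z = a ⊗ₜ[B] (1 : B ⧸ I) := by
      intro z
      induction z using TensorProduct.induction_on with
      | zero => exact ⟨0, by simp⟩
      | add x y hx hy =>
        obtain ⟨a, rfl⟩ := hx
        obtain ⟨b, rfl⟩ := hy
        exact ⟨a + b, by rw [TensorProduct.add_tmul]⟩
      | tmul x y =>
        obtain ⟨y, rfl⟩ := Ideal.Quotient.mk_surjective y
        refine ⟨y • x, ?_⟩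
        rw [TensorProduct.smul_tmul]
        congr 1
        rw [← Ideal.Quotient.algebraMap_eq, Algebra.algebraMap_eq_smul_one]
    refine RingHom.Flat.of_bijective ⟨fun z w hzw => ?_, fun a => ⟨a ⊗ₜ 1, by simp⟩⟩
    obtain ⟨a, rfl⟩ := hone z
    obtain ⟨b, rfl⟩ := hone w
    simp only [AlgHom.toRingHom_eq_coe, RingHom.coe_coe, Algebra.TensorProduct.lmul'_apply_tmul,
      mul_one] at hzw
    rw [hzw]
  exact Algebra.WeaklyEtale.trans K B (B ⧸ I)

theorem isSepRoot (x : B) : IsSepRoot K x := by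
  classical
  have key : ∀ q : PrimeSpectrum B, ∃ P : K[X], P.Monic ∧ Irreducible P ∧ P.Separable ∧
      aeval x P ∈ q.asIdeal := by
    intro q
    have hmax : q.asIdeal.IsMaximal := by
      refine Ideal.Quotient.maximal_of_isField _ ⟨⟨0, 1, zero_ne_one⟩, mul_comm, fun {z} hz => ?_⟩
      obtain ⟨z, rfl⟩ := Ideal.Quotient.mk_surjective z
      obtain ⟨c, hc⟩ := exists_mul_mul_eq K B z
      refine ⟨Ideal.Quotient.mk _ c, mul_left_cancel₀ hz ?_⟩
      rw [← mul_assoc, mul_one, ← map_mul, ← map_mul, hc]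
    letI := Ideal.Quotient.field q.asIdeal
    haveI := weaklyEtale_quotient K B q.asIdeal
    haveI := Groth.Agent.S0426.result (K := K) (L := B ⧸ q.asIdeal)
    have hsep := Algebra.IsSeparable.isSeparable K (Ideal.Quotient.mk q.asIdeal x)
    refine ⟨minpoly K (Ideal.Quotient.mk q.asIdeal x), minpoly.monic hsep.isIntegral,
      minpoly.irreducible hsep.isIntegral, hsep, ?_⟩
    rw [← Ideal.Quotient.eq_zero_iff_mem, ← Ideal.Quotient.mkₐ_eq_mk K, ← aeval_algHom_apply]
    exact minpoly.aeval K _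
  choose P hm hi hs hP using key
  have hopen : ∀ q, IsOpen (PrimeSpectrum.zeroLocus {aeval x (P q)}) := fun q => by
    obtain ⟨c, hc⟩ := exists_mul_mul_eq K B (aeval x (P q))
    have : PrimeSpectrum.zeroLocus {aeval x (P q)} =
        (PrimeSpectrum.basicOpen (1 - aeval x (P q) * c) : Set (PrimeSpectrum B)) := by
      ext p
      simp only [PrimeSpectrum.mem_zeroLocus, Set.singleton_subset_iff, SetLike.mem_coe,
        PrimeSpectrum.mem_basicOpen]
      refine ⟨fun h1 h2 => p.isPrime.ne_top ((Ideal.eq_top_iff_one _).mpr ?_), fun h1 => ?_⟩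
      · have := add_mem h2 (p.asIdeal.mul_mem_right c h1)
        rwa [sub_add_cancel] at this
      · refine (p.isPrime.mem_or_mem (x := aeval x (P q)) ?_).resolve_right h1
        rw [mul_sub, mul_one, ← mul_assoc, hc, sub_self]
        exact zero_mem _
    rw [this]
    exact (PrimeSpectrum.basicOpen _).2
  obtain ⟨t, ht⟩ := isCompact_univ.elim_finite_subcover _ hopen fun q _ =>
    Set.mem_iUnion.mpr ⟨q, by simpa using hP q⟩
  let T : Finset K[X] := t.image P
  refine ⟨∏ p ∈ T, p, separable_prod' (fun a ha b hb hab => ?_) (fun a ha => ?_), ?_⟩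
  · obtain ⟨i, -, rfl⟩ := Finset.mem_image.mp ha
    obtain ⟨j, -, rfl⟩ := Finset.mem_image.mp hb
    refine (hi i).coprime_iff_not_dvd.mpr fun hdvd => hab ?_
    exact eq_of_monic_of_associated (hm i) (hm j) ((hi i).associated_of_dvd (hi j) hdvd)
  · obtain ⟨i, -, rfl⟩ := Finset.mem_image.mp ha
    exact hs i
  · haveI := Groth.L20.isReduced_of_weaklyEtale K B
    refine IsNilpotent.eq_zero (nilpotent_iff_mem_prime.mpr fun J hJ => ?_)
    obtain ⟨i, hit, hiJ⟩ := Set.mem_iUnion₂.mp (ht (Set.mem_univ ⟨J, hJ⟩))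
    rw [map_prod]
    refine Ideal.mem_of_dvd J (Finset.dvd_prod_of_mem _ (Finset.mem_image_of_mem P hit)) ?_
    simpa using hiJ

end

theorem weaklyEtale_iff_forall : Algebra.WeaklyEtale K B ↔ ∀ x : B, IsSepRoot K x :=
  ⟨fun _ => isSepRoot K B, weaklyEtale_of_forall⟩

variable (K B) in
/-- The subalgebra of roots of separable polynomials. -/
def sepSubalgebra : Subalgebra K B where
  carrier := {x | IsSepRoot K x}
  mul_mem' := by
    rintro x y hx hy
    haveI := etale_adjoin {x, y} (Set.toFinite _) (by rintro z (rfl | rfl) <;> assumption)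
    exact (isSepRoot K _ (⟨x, Algebra.subset_adjoin (Set.mem_insert _ _)⟩ *
      ⟨y, Algebra.subset_adjoin (Set.mem_insert_of_mem _ rfl)⟩ : Algebra.adjoin K {x, y})).map
      (Algebra.adjoin K {x, y}).val
  add_mem' := by
    rintro x y hx hy
    haveI := etale_adjoin {x, y} (Set.toFinite _) (by rintro z (rfl | rfl) <;> assumption)
    exact (isSepRoot K _ (⟨x, Algebra.subset_adjoin (Set.mem_insert _ _)⟩ +
      ⟨y, Algebra.subset_adjoin (Set.mem_insert_of_mem _ rfl)⟩ : Algebra.adjoin K {x, y})).map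
      (Algebra.adjoin K {x, y}).val
  algebraMap_mem' k := ⟨X - Polynomial.C k, separable_X_sub_C, by simp⟩

theorem mem_sepSubalgebra {x : B} : x ∈ sepSubalgebra K B ↔ IsSepRoot K x := Iff.rfl

end Groth.L05.WE
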