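import Groth.Agent.L05.WE.Field
import Groth.Prelude.Def_EtAlgD
import Mathlib.RingTheory.Artinian.Module
import Mathlib.RingTheory.Nilpotent.Lemmas

/-!
# The maximal weakly étale subalgebra
-/

open Polynomial

namespace Groth.L05.WE

universe u

variable {K : Type u} [Field K] {A : Type u} [CommRing A] [Algebra K A]

theorem weaklyEtale_sepSubalgebra : Algebra.WeaklyEtale K (sepSubalgebra K A) :=
  weaklyEtale_of_forall fun x => IsSepRoot.of_map (sepSubalgebra K A).val Subtype.val_injective x.2

theorem maxWeaklyEtale_eq : EtAlgD.maxWeaklyEtale K A = sepSubalgebra K A := by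
  refine le_antisymm (sSup_le fun S hS => ?_) (le_sSup weaklyEtale_sepSubalgebra)
  intro x hx
  haveI : Algebra.WeaklyEtale K S := hS
  exact (isSepRoot K S ⟨x, hx⟩).map S.val

theorem bijOn_sep_quotient_nilradical :
    Set.BijOn (Ideal.Quotient.mkₐ K (nilradical A)) (sepSubalgebra K A : Set A)
      (sepSubalgebra K (A ⧸ nilradical A) : Set (A ⧸ nilradical A)) := by
  refine ⟨fun x hx => IsSepRoot.map hx _, fun x hx y hy hxy => ?_, fun z hz => ?_⟩
  · have hn : IsNilpotent (x - y) := mem_nilradical.mp (Ideal.Quotient.eq.mp hxy)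
    haveI := weaklyEtale_sepSubalgebra (K := K) (A := A)
    haveI := Groth.L20.isReduced_of_weaklyEtale K (sepSubalgebra K A)
    have h0 : IsNilpotent ((⟨x, hx⟩ : sepSubalgebra K A) - ⟨y, hy⟩) := by
      obtain ⟨n, h⟩ := hn
      exact ⟨n, Subtype.ext (by simpa using h)⟩
    exact congrArg Subtype.val (sub_eq_zero.mp h0.eq_zero)
  · obtain ⟨P, hP, hz0⟩ := hz
    obtain ⟨a, rfl⟩ := Ideal.Quotient.mk_surjective z
    have ha : IsNilpotent (aeval a P) := by
      rw [← mem_nilradical, ← Ideal.Quotient.eq_zero_iff_mem, ← Ideal.Quotient.mkₐ_eq_mk K,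
        ← aeval_algHom_apply]
      exact hz0
    obtain ⟨u, v, huv⟩ := id hP
    have hu : IsUnit (aeval a (derivative P)) := by
      have h1 := congrArg (aeval a) huv
      rw [map_add, map_mul, map_mul, map_one] at h1
      have h2 : IsUnit (aeval a v * aeval a (derivative P)) := by
        rw [eq_sub_of_add_eq' h1]
        exact ((Commute.all _ _).isNilpotent_mul_left ha).isUnit_one_sub
      exact isUnit_of_mul_isUnit_right h2
    obtain ⟨r, ⟨hr, hr0⟩, -⟩ := existsUnique_nilpotent_sub_and_aeval_eq_zero ha hu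
    exact ⟨r, ⟨P, hP, hr0⟩, (Ideal.Quotient.eq.mpr (mem_nilradical.mpr hr)).symm⟩

theorem exists_inverse_of_connected (he : ∀ e : A, IsIdempotentElem e → e = 0 ∨ e = 1) {x : A}
    (hx : IsSepRoot K x) (hx0 : x ≠ 0) : ∃ y, IsSepRoot K y ∧ x * y = 1 := by
  obtain ⟨P, hP, hPx⟩ := hx
  suffices ∃ Q : K[X], x * aeval x Q = 1 by
    obtain ⟨Q, hQ⟩ := this
    refine ⟨aeval x Q, ?_, hQ⟩
    haveI := etale_adjoin {x} (Set.finite_singleton x) (by rintro z rfl; exact ⟨P, hP, hPx⟩)
    exact (isSepRoot K _ (⟨aeval x Q, by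
      rw [Algebra.adjoin_singleton_eq_range_aeval]; exact ⟨Q, rfl⟩⟩ : Algebra.adjoin K {x})).map
      (Algebra.adjoin K {x}).val
  have hdec := (X_mul_divX_add P).symm
  by_cases h0 : P.coeff 0 = 0
  · rw [h0, map_zero, add_zero] at hdec
    rw [hdec, mul_comm] at hP
    have hcop : IsCoprime P.divX X := by
      refine hP.isCoprime
    obtain ⟨v, u, huv⟩ := hcop
    have h1 := congrArg (aeval x) huv
    simp only [map_add, map_mul, aeval_X, map_one] at h1
    rw [hdec, map_mul, aeval_X] at hPx
    have he' : IsIdempotentElem (aeval x v * aeval x P.divX) := by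
      show _ * _ = _
      linear_combination (aeval x v * aeval x P.divX) * h1 - (aeval x u * aeval x v) * hPx
    rcases he _ he' with h | h
    · refine ⟨u, ?_⟩
      linear_combination h1 - h
    · refine absurd ?_ hx0
      linear_combination (-x) * h + aeval x v * hPx
  · refine ⟨-(C (P.coeff 0)⁻¹) * P.divX, ?_⟩
    have h1 : x * aeval x P.divX + algebraMap K A (P.coeff 0) = 0 := by
      have h3 := congrArg (aeval x) hdec
      rw [map_add, map_mul, aeval_X, aeval_C] at h3
      rw [← h3, hPx]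
    rw [map_mul, map_neg, aeval_C]
    have h2 : algebraMap K A (P.coeff 0)⁻¹ * algebraMap K A (P.coeff 0) = 1 := by
      rw [← map_mul, inv_mul_cancel₀ h0, map_one]
    linear_combination (-algebraMap K A (P.coeff 0)⁻¹) * h1 + h2

end Groth.L05.WE
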