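import Groth.Agent.L05.WE.Max
import Mathlib.RingTheory.Jacobson.Ring
import Mathlib.RingTheory.Trace.Basic
import Mathlib.RingTheory.TensorProduct.Maps
import Mathlib.LinearAlgebra.TensorProduct.Basis
import Mathlib.FieldTheory.IsAlgClosed.AlgebraicClosure
import Mathlib.FieldTheory.PurelyInseparable.Basic
import Mathlib.RingTheory.Flat.Basic
import Mathlib.LinearAlgebra.Lagrange

/-!
# The maximal weakly étale subalgebra commutes with extension of the base field
-/

open TensorProduct Polynomial

set_option autoImplicit false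
set_option linter.all false

namespace Groth.L05.WE

universe u

/-- Idempotents are roots of a separable polynomial. -/
theorem isSepRoot_idem {K : Type u} [Field K] {B : Type u} [CommRing B] [Algebra K B] {e : B}
    (he : IsIdempotentElem e) : IsSepRoot K e :=
  ⟨X * (X - C 1), (separable_X (R := K)).mul separable_X_sub_C ⟨1, -1, by simp⟩,
    by simp [mul_sub, he.eq]⟩

/-- An element killed by all points of a finitely generated algebra over an algebraically closed field
has nilpotent coefficients. -/
theorem isNilpotent_of_points {K : Type u} [Field K] [IsAlgClosed K] {R A : Type u} [CommRing R]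
    [Algebra K R] [CommRing A] [Algebra K A] [Algebra.FiniteType K A] (z : R ⊗[K] A)
    (h : ∀ ξ : A →ₐ[K] K, Algebra.TensorProduct.lift (AlgHom.id K R) ((Algebra.ofId K R).comp ξ)
      (fun _ _ => Commute.all _ _) z = 0) : IsNilpotent z := by
  classical
  let b := Module.Free.chooseBasis K R
  let c := TensorProduct.equivFinsuppOfBasisLeft b z
  have hz : z = c.sum fun i a => b i ⊗ₜ[K] a := by
    rw [← TensorProduct.equivFinsuppOfBasisLeft_symm_apply]
    exact ((TensorProduct.equivFinsuppOfBasisLeft b).symm_apply_apply z).symm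
  haveI : IsJacobsonRing A := isJacobsonRing_of_finiteType (A := K)
  have hc : ∀ i, IsNilpotent (c i) := by
    intro i
    rw [← mem_nilradical, nilradical, Ideal.zero_eq_bot, ← IsJacobsonRing.out inferInstance (Ideal.radical_isRadical (⊥ : Ideal A)),
      Ideal.jacobson, Submodule.mem_sInf]
    rintro m ⟨-, hm⟩
    haveI := hm
    let := Ideal.Quotient.field m
    haveI : Module.Finite K (A ⧸ m) := finite_of_finite_type_of_isJacobsonRing K (A ⧸ m)
    let ξ : A →ₐ[K] K := (IsAlgClosed.lift : A ⧸ m →ₐ[K] K).comp (Ideal.Quotient.mkₐ K m)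
    have h1 := h ξ
    rw [hz, Finsupp.sum, map_sum] at h1
    have h2 : ∑ j ∈ c.support, ξ (c j) • b j = 0 := by
      rw [← h1]
      refine Finset.sum_congr rfl fun j _ => ?_
      simp [Algebra.smul_def, mul_comm]
    have h3 : ξ (c i) = 0 := by
      by_cases hi : i ∈ c.support
      · exact linearIndependent_iff'.mp b.linearIndependent c.support (fun j => ξ (c j)) h2 i hi
      · rw [Finsupp.notMem_support_iff.mp hi, map_zero]
    exact Ideal.Quotient.eq_zero_iff_mem.mp
      ((IsAlgClosed.lift : A ⧸ m →ₐ[K] K).toRingHom.injective (h3.trans (map_zero _).symm))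
  rw [hz]
  refine isNilpotent_sum fun i _ => ?_
  obtain ⟨n, hn⟩ := hc i
  exact ⟨n, by rw [Algebra.TensorProduct.tmul_pow, hn, tmul_zero]⟩

/-- Over an algebraically closed field, idempotents do not appear after field extension. -/
theorem idem_algClosed {K : Type u} [Field K] [IsAlgClosed K] (L A : Type u) [Field L] [Algebra K L]
    [CommRing A] [Algebra K A] (e : L ⊗[K] A) (he : IsIdempotentElem e) :
    ∃ a : A, e = 1 ⊗ₜ a := by
  classical
  obtain ⟨S, hS⟩ := TensorProduct.exists_finset e
  let R := Algebra.adjoin K ((S.image Prod.fst : Finset L) : Set L)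
  let A₀ := Algebra.adjoin K ((S.image Prod.snd : Finset A) : Set A)
  let ι := Algebra.TensorProduct.map R.val A₀.val
  have hι : Function.Injective ι := by
    have h := TensorProduct.map_injective_of_flat_flat (R := K) R.val.toLinearMap A₀.val.toLinearMap
      Subtype.val_injective Subtype.val_injective
    exact h
  let e₀ : R ⊗[K] A₀ := ∑ i ∈ S.attach,
    (⟨i.1.1, Algebra.subset_adjoin (Finset.mem_coe.mpr (Finset.mem_image_of_mem _ i.2))⟩ : R) ⊗ₜ[K]
      (⟨i.1.2, Algebra.subset_adjoin (Finset.mem_coe.mpr (Finset.mem_image_of_mem _ i.2))⟩ : A₀)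
  have he₀ : ι e₀ = e := by
    rw [hS, ← Finset.sum_attach S, map_sum]
    rfl
  have hid : IsIdempotentElem e₀ := hι (by rw [map_mul, he₀, he.eq])
  haveI : Algebra.FiniteType K R := (Subalgebra.fg_iff_finiteType R).mp ⟨_, rfl⟩
  haveI : Algebra.FiniteType K A₀ := (Subalgebra.fg_iff_finiteType A₀).mp ⟨_, rfl⟩
  obtain ⟨m, hm⟩ := Ideal.exists_maximal R
  let := Ideal.Quotient.field m
  haveI : Module.Finite K (R ⧸ m) := finite_of_finite_type_of_isJacobsonRing K (R ⧸ m)
  let s : R →ₐ[K] K := (IsAlgClosed.lift : R ⧸ m →ₐ[K] K).comp (Ideal.Quotient.mkₐ K m)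
  let f : A₀ := Algebra.TensorProduct.lift ((Algebra.ofId K A₀).comp s) (AlgHom.id K A₀)
    (fun _ _ => Commute.all _ _) e₀
  have hf : IsIdempotentElem f := by rw [IsIdempotentElem, ← map_mul, hid.eq]
  have hn : IsNilpotent (e₀ - Algebra.TensorProduct.includeRight f) := by
    refine isNilpotent_of_points _ fun ξ => ?_
    set v := Algebra.TensorProduct.lift (AlgHom.id K R) ((Algebra.ofId K R).comp ξ)
      (fun _ _ => Commute.all _ _) with hv
    have hu : IsIdempotentElem (v e₀) := by rw [IsIdempotentElem, ← map_mul, hid.eq]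
    have key : ∀ z : R ⊗[K] A₀, s (v z) = ξ (Algebra.TensorProduct.lift ((Algebra.ofId K A₀).comp s)
        (AlgHom.id K A₀) (fun _ _ => Commute.all _ _) z) := by
      intro z
      induction z using TensorProduct.induction_on with
      | zero => simp
      | tmul x y =>
        simp [hv]
      | add x y hx hy => simp [map_add, hx, hy]
    have hright : v (Algebra.TensorProduct.includeRight f) = algebraMap K R (ξ f) := by simp [hv]
    rw [map_sub, hright, show f = _ from rfl, ← key]
    rcases IsIdempotentElem.iff_eq_zero_or_one.mp hu with h | h <;> simp [h]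
  refine ⟨(f : A), ?_⟩
  have h := eq_of_isNilpotent_sub_of_isIdempotentElem hid (hf.map _) hn
  rw [← he₀, h]
  simp [ι]

variable {K : Type u} [Field K] {A : Type u} [CommRing A] [Algebra K A]

/-- The base change of the maximal separable subalgebra. -/
noncomputable abbrev sepBC (L : Type u) [Field L] [Algebra K L] (K' : Type u) [Field K'] (A : Type u)
    [CommRing A] [Algebra K' A] [Algebra K' L] : Subalgebra L (L ⊗[K'] A) :=
  (Algebra.TensorProduct.map (AlgHom.id L L) (sepSubalgebra K' A).val).range

theorem tmul_mem_sepBC {L : Type u} [Field L] [Algebra K L] (l : L) {a : A} (ha : IsSepRoot K a) :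
    l ⊗ₜ[K] a ∈ sepBC (K := K) L K A :=
  ⟨l ⊗ₜ ⟨a, ha⟩, rfl⟩

/-- The trace trick: a separable element of a finite separable base extension has separable coordinates. -/
theorem sepRoot_mem_of_finite (K' : Type u) [Field K'] [Algebra K K'] [FiniteDimensional K K']
    [Algebra.IsSeparable K K'] {e : K' ⊗[K] A} (he : IsSepRoot K e) :
    e ∈ sepBC (K := K) K' K A := by
  classical
  let b := Module.finBasis K K'
  let Ω := AlgebraicClosure K
  let c := TensorProduct.equivFinsuppOfBasisLeft b e
  have hz : e = ∑ i, b i ⊗ₜ[K] c i := by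
    conv_lhs => rw [← (TensorProduct.equivFinsuppOfBasisLeft b).symm_apply_apply e,
      TensorProduct.equivFinsuppOfBasisLeft_symm_apply]
    exact Finsupp.sum_fintype _ _ (fun i => tmul_zero _ _)
  rw [hz]
  refine Subalgebra.sum_mem _ fun j _ => tmul_mem_sepBC (K := K) (b j) ?_
  let y : K' ⊗[K] A := (b.traceDual j ⊗ₜ 1) * e
  have hy : IsSepRoot K y := (sepSubalgebra K _).mul_mem
    ((isSepRoot_of_isSeparable (Algebra.IsSeparable.isSeparable K (b.traceDual j))).map
      (Algebra.TensorProduct.includeLeft (S := K) (B := A))) he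
  let g : (K' →ₐ[K] Ω) → (K' ⊗[K] A →ₐ[K] Ω ⊗[K] A) := fun σ =>
    Algebra.TensorProduct.map σ (AlgHom.id K A)
  have hsum : IsSepRoot K (∑ σ, g σ y) :=
    (sepSubalgebra K (Ω ⊗[K] A)).sum_mem fun σ _ => hy.map (g σ)
  have key : ∑ σ, g σ y = Algebra.TensorProduct.includeRight (c j) := by
    simp only [g, y, hz, Finset.mul_sum, Algebra.TensorProduct.tmul_mul_tmul, one_mul, map_sum,
      Algebra.TensorProduct.map_tmul, AlgHom.id_apply]
    rw [Finset.sum_comm, Finset.sum_eq_single j]
    · rw [← TensorProduct.sum_tmul, ← trace_eq_sum_embeddings, Module.Basis.trace_traceDual_mul,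
        if_pos rfl, map_one]
      rfl
    · intro i _ hi
      rw [← TensorProduct.sum_tmul, ← trace_eq_sum_embeddings, Module.Basis.trace_traceDual_mul,
        if_neg hi, map_zero, zero_tmul]
    · simp
  rw [key] at hsum
  exact hsum.of_map _ (Algebra.TensorProduct.includeRight_injective (algebraMap K Ω).injective)

theorem idem_mem_closure (Ω : Type u) [Field Ω] [Algebra K Ω] [Algebra.IsAlgebraic K Ω] (e : Ω ⊗[K] A)
    (he : IsIdempotentElem e) : e ∈ sepBC (K := K) Ω K A := by
  classical
  rcases subsingleton_or_nontrivial A with hA | hA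
  · have : Subsingleton (Ω ⊗[K] A) := (TensorProduct.comm K Ω A).injective.subsingleton
    rw [Subsingleton.elim e 0]; exact zero_mem _
  obtain ⟨q, hq⟩ := ExpChar.exists K
  haveI := hq
  haveI : ExpChar Ω q := expChar_of_injective_algebraMap (algebraMap K Ω).injective q
  haveI : Nontrivial (Ω ⊗[K] A) :=
    (Algebra.TensorProduct.includeRight_injective (A := Ω) (B := A) (algebraMap K Ω).injective).nontrivial
  haveI : ExpChar (Ω ⊗[K] A) q :=
    expChar_of_injective_algebraMap (R := K) (algebraMap K (Ω ⊗[K] A)).injective q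
  obtain ⟨S, hS⟩ := TensorProduct.exists_finset e
  have hp := fun l : Ω => IsPurelyInseparable.pow_mem (separableClosure K Ω) q l
  choose n hn using hp
  let N := S.sup fun i => n i.1
  have hsep : ∀ i ∈ S, IsSeparable K (i.1 ^ q ^ N) := by
    intro i hi
    obtain ⟨k, hk⟩ := hn i.1
    have : n i.1 ≤ N := Finset.le_sup (f := fun i : Ω × A => n i.1) hi
    have e2 : i.1 ^ q ^ N = ((k : Ω)) ^ (q ^ (N - n i.1)) := by
      rw [show (k : Ω) = i.1 ^ q ^ n i.1 from hk, ← pow_mul, ← pow_add, Nat.add_sub_cancel' this]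
    rw [e2]
    exact mem_separableClosure_iff.mp (pow_mem k.2 _)
  let K' := IntermediateField.adjoin K ((S.image fun i => i.1 ^ q ^ N : Finset Ω) : Set Ω)
  haveI : FiniteDimensional K K' :=
    IntermediateField.finiteDimensional_adjoin fun x _ => Algebra.IsIntegral.isIntegral x
  haveI : Algebra.IsSeparable K K' := (IntermediateField.isSeparable_adjoin_iff_isSeparable K Ω).mpr fun x hx => by
    obtain ⟨i, hi, rfl⟩ := Finset.mem_image.mp (Finset.mem_coe.mp hx)
    exact hsep i hi
  let j := Algebra.TensorProduct.map K'.val (AlgHom.id K A)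
  have hj : Function.Injective j :=
    TensorProduct.map_injective_of_flat_flat (R := K) K'.val.toLinearMap (LinearMap.id (M := A))
      Subtype.val_injective Function.injective_id
  let e' : K' ⊗[K] A := ∑ i ∈ S.attach,
    (⟨i.1.1 ^ q ^ N, IntermediateField.subset_adjoin _ _ (Finset.mem_coe.mpr
      (Finset.mem_image_of_mem (fun i : Ω × A => i.1 ^ q ^ N) i.2))⟩ : K') ⊗ₜ[K] (i.1.2 ^ q ^ N)
  have hee : j e' = e := by
    have h1 : e ^ q ^ N = e := by
      rw [← Nat.succ_pred_eq_of_pos (pow_pos (expChar_pos K q) N)]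
      exact he.pow_succ_eq _
    rw [← h1, hS, sum_pow_char_pow, ← Finset.sum_attach S, map_sum]
    exact Finset.sum_congr rfl fun i _ => by rw [Algebra.TensorProduct.tmul_pow]; rfl
  have he' : IsIdempotentElem e' := hj (by rw [map_mul, hee, he.eq])
  obtain ⟨w, hw⟩ := sepRoot_mem_of_finite (K := K) K' (isSepRoot_idem he')
  refine ⟨Algebra.TensorProduct.map K'.val (AlgHom.id K _) w, ?_⟩
  rw [← hee, ← hw]
  clear hw
  induction w using TensorProduct.induction_on with
  | zero => simp
  | tmul x y => rfl
  | add x y hx hy => simp only [map_add, hx, hy]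

theorem idem_mem (L : Type u) [Field L] [Algebra K L] [IsAlgClosed L] (e : L ⊗[K] A)
    (he : IsIdempotentElem e) : e ∈ sepBC (K := K) L K A := by
  let Ω := AlgebraicClosure K
  letI : Algebra Ω L := (IsAlgClosed.lift : Ω →ₐ[K] L).toRingHom.toAlgebra
  haveI : IsScalarTower K Ω L := IsScalarTower.of_algHom (IsAlgClosed.lift : Ω →ₐ[K] L)
  let ψ := Algebra.TensorProduct.cancelBaseChange K Ω L L A
  obtain ⟨f, hf⟩ := idem_algClosed L (Ω ⊗[K] A) (ψ.symm e) (he.map ψ.symm)
  have hf' : IsIdempotentElem f := by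
    refine Algebra.TensorProduct.includeRight_injective (A := L) (B := Ω ⊗[K] A) (R := Ω)
      (algebraMap Ω L).injective ?_
    simp only [map_mul, Algebra.TensorProduct.includeRight_apply, ← hf]
    exact (he.map ψ.symm).eq
  obtain ⟨w, hw⟩ := idem_mem_closure (K := K) Ω f hf'
  have he2 : e = ψ (1 ⊗ₜ f) := by rw [← hf, AlgEquiv.apply_symm_apply]
  rw [he2, ← hw]
  clear he2 hw
  induction w using TensorProduct.induction_on with
  | zero => simp
  | tmul x y =>
    refine ⟨algebraMap Ω L x ⊗ₜ y, ?_⟩
    simp [ψ, Algebra.smul_def]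
  | add x y hx hy => simp only [map_add, tmul_add]; exact add_mem hx hy

theorem sepRoot_mem_algClosed (L : Type u) [Field L] [Algebra K L] [IsAlgClosed L] (x : L ⊗[K] A)
    (hx : IsSepRoot L x) : x ∈ sepBC (K := K) L K A := by
  classical
  obtain ⟨P, hP, hPx⟩ := hx
  have hsplit : P.Splits := IsAlgClosed.splits _
  let s : Finset L := P.roots.toFinset
  have hvanish : ∀ Q : L[X], (∀ r ∈ s, Q.eval r = 0) → aeval x Q = 0 := by
    intro Q hQ
    have h1 : (∏ r ∈ s, (X - C r)) ∣ Q := Finset.prod_dvd_of_coprime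
      ((pairwise_coprime_X_sub_C Function.injective_id).set_pairwise _)
      fun r hr => dvd_iff_isRoot.mpr (hQ r hr)
    have h2 : P = C P.leadingCoeff * ∏ r ∈ s, (X - C r) := by
      conv_lhs => rw [hsplit.eq_prod_roots]
      congr 1
      rw [Finset.prod_eq_multiset_prod, Multiset.toFinset_val, (nodup_roots hP).dedup]
    have hlc : IsUnit (C P.leadingCoeff) := (isUnit_C.mpr (Ne.isUnit (leadingCoeff_ne_zero.mpr hP.ne_zero)))
    have h3 : P ∣ Q := by rw [h2]; exact (IsUnit.mul_left_dvd hlc).mpr h1
    obtain ⟨R, rfl⟩ := h3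
    rw [map_mul, hPx, zero_mul]
  let ℓ : L → L[X] := fun r => Lagrange.basis s id r
  have hℓ : ∀ r ∈ s, ∀ t ∈ s, (ℓ r).eval t = if r = t then 1 else 0 := by
    intro r hr t ht
    split_ifs with h
    · subst h; exact Lagrange.eval_basis_self Function.injective_id.injOn hr
    · exact Lagrange.eval_basis_of_ne (v := id) h ht
  have hx' : x = ∑ r ∈ s, r • aeval x (ℓ r) := by
    have := hvanish (X - ∑ r ∈ s, r • ℓ r) fun t ht => by
      rw [eval_sub, eval_X, eval_finsetSum, Finset.sum_congr rfl (g := fun r => if r = t then r else 0)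
        (fun r hr => by rw [eval_smul, hℓ r hr t ht, smul_eq_mul, mul_ite, mul_one, mul_zero]),
        Finset.sum_ite_eq', if_pos ht, sub_self]
    rw [map_sub, aeval_X, map_sum, sub_eq_zero] at this
    exact this.trans (Finset.sum_congr rfl fun r _ => map_smul _ _ _)
  rw [hx']
  refine Subalgebra.sum_mem _ fun r hr => Subalgebra.smul_mem _ (idem_mem L _ ?_) r
  have := hvanish (ℓ r * ℓ r - ℓ r) fun t ht => by
    rw [eval_sub, eval_mul, hℓ r hr t ht]; split_ifs <;> simp
  rw [map_sub, map_mul, sub_eq_zero] at this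
  exact this

theorem maxWeaklyEtale_tensor (K L : Type u) [Field K] [Field L] [Algebra K L] (A : Type u) [CommRing A]
    [Algebra K A] :
    EtAlgD.maxWeaklyEtale L (L ⊗[K] A) =
      Algebra.adjoin L ((Algebra.TensorProduct.includeRight : A →ₐ[K] L ⊗[K] A) '' (EtAlgD.maxWeaklyEtale K A : Set A)) := by
  rw [maxWeaklyEtale_eq, maxWeaklyEtale_eq]
  apply le_antisymm
  · intro x hx
    let Ω := AlgebraicClosure L
    let S := (sepSubalgebra K A).toSubmodule
    let i : L →ₐ[K] Ω := IsScalarTower.toAlgHom K L Ω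
    let J : L ⊗[K] A →ₐ[L] Ω ⊗[K] A :=
      Algebra.TensorProduct.map (Algebra.ofId L Ω) (AlgHom.id K A)
    obtain ⟨P, hP, hPx⟩ := hx
    have hx2 : IsSepRoot Ω (J x) := ⟨P.map (algebraMap L Ω), hP.map, by
      rw [aeval_map_algebraMap, aeval_algHom_apply, hPx, map_zero]⟩
    obtain ⟨w, hw⟩ := sepRoot_mem_algClosed Ω (J x) hx2
    have hex : Function.Exact (S.subtype.lTensor L) (S.mkQ.lTensor L) :=
      lTensor_exact L (LinearMap.exact_subtype_mkQ S) (Submodule.mkQ_surjective S)
    have h0 : S.mkQ.lTensor L x = 0 := by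
      refine Module.Flat.rTensor_preserves_injective_linearMap (M := A ⧸ S) i.toLinearMap i.injective ?_
      rw [map_zero]
      have h1 : ∀ z : L ⊗[K] A, i.toLinearMap.rTensor (A ⧸ S) (S.mkQ.lTensor L z) = S.mkQ.lTensor Ω (J z) := by
        intro z
        induction z using TensorProduct.induction_on with
        | zero => simp
        | tmul a b => rfl
        | add a b ha hb => simp only [map_add, ha, hb]
      rw [h1, ← hw]
      clear hw
      induction w using TensorProduct.induction_on with
      | zero => simp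
      | tmul a b =>
        show a ⊗ₜ[K] S.mkQ b.1 = 0
        rw [show S.mkQ b.1 = 0 from (Submodule.Quotient.mk_eq_zero S).mpr b.2, tmul_zero]
      | add a b ha hb =>
        have : ∀ u v, S.mkQ.lTensor Ω ((Algebra.TensorProduct.map (AlgHom.id Ω Ω) (sepSubalgebra K A).val).toRingHom (u + v)) =
            S.mkQ.lTensor Ω ((Algebra.TensorProduct.map (AlgHom.id Ω Ω) (sepSubalgebra K A).val).toRingHom u) +
            S.mkQ.lTensor Ω ((Algebra.TensorProduct.map (AlgHom.id Ω Ω) (sepSubalgebra K A).val).toRingHom v) :=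
          fun u v => by rw [map_add, map_add]
        exact (this a b).trans (by rw [ha, hb, add_zero])
    obtain ⟨v, rfl⟩ := (hex x).mp h0
    clear hPx hw hx2 h0
    induction v using TensorProduct.induction_on with
    | zero => rw [map_zero]; exact zero_mem _
    | tmul a b =>
      rw [LinearMap.lTensor_tmul, Submodule.subtype_apply,
        show a ⊗ₜ[K] (b : A) = a • ((1 : L) ⊗ₜ[K] (b : A)) by rw [smul_tmul', smul_eq_mul, mul_one]]
      exact Subalgebra.smul_mem _ (Algebra.subset_adjoin
        (Set.mem_image_of_mem (Algebra.TensorProduct.includeRight : A →ₐ[K] L ⊗[K] A) b.2)) a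
    | add a b ha hb => rw [map_add]; exact add_mem ha hb
  · rw [Algebra.adjoin_le_iff]
    rintro _ ⟨a, ⟨P, hP, ha⟩, rfl⟩
    show IsSepRoot L ((Algebra.TensorProduct.includeRight : A →ₐ[K] L ⊗[K] A) a)
    exact ⟨P.map (algebraMap K L), hP.map, by rw [aeval_map_algebraMap, aeval_algHom_apply, ha, map_zero]⟩

end Groth.L05.WE
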